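import Cfsg.Agent.Lib.Sporadic.FiTransfer.ThreeA.Reflect
import Cfsg.Agent.Lib.Sporadic.Fi22Out.Points

/-!
# Kernel checks for the normaliser of a product of two non-commuting transpositions
-/

set_option autoImplicit false
set_option maxRecDepth 100000

namespace CfsgLib.Sporadic.FiTransfer.ThreeA

open CosetCert CosetCert.FiP.OutFi22 FiData

/-- The halves of the words of the seven transpositions. -/
def genHalf : List (List ℕ × ℕ) :=
  [([], 3), ([], 4), ([], 5), ([], 6), ([], 7), ([], 8), ([2, 3, 4, 1, 2, 3, 7, 5, 4, 3, 2, 1], 0)]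

/-- The numbers of the points of the seven transpositions. -/
def gIx : List ℕ := [0, 3, 13, 20, 6, 17, 21]

theorem cPts_len : cPts.length = 126 := by decide +kernel

theorem cPts_lt : ∀ u < 126, cPts.getD u 3510 < 3510 := by decide +kernel

theorem cPts_nodup : cPts.Nodup := by decide +kernel

theorem cPts_common : cPts.all (fun q =>
    Nat.beq (table.imgW [0] q) q && Nat.beq (table.imgW [1] q) q && !(Nat.beq q 0) && !(Nat.beq q 2)) = true := by
  decide +kernel

theorem common_scan : (List.range 3510).all (fun q =>
    !(Nat.beq (table.imgW [0] q) q && Nat.beq (table.imgW [1] q) q) || Nat.beq q 0 || Nat.beq q 2 ||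
      cPts.contains q) = true := by
  decide +kernel

theorem pair_fix_scan : (List.range 3510).all (fun q =>
    !(Nat.beq (table.imgW [1, 0] q) q) ||
      (Nat.beq (table.imgW [0] q) q && Nat.beq (table.imgW [1] q) q)) = true := by
  decide +kernel

theorem third_unique : (List.range 3510).all (fun q =>
    Nat.beq q 6 || ([0, 1, 3, 4, 5, 6, 7, 8].any fun x =>
      !((Nat.beq (table.imgW [x] q) q) == Nat.beq (table.imgW [x] 6) 6))) = true := by
  decide +kernel

theorem fixed_seven_scan : (List.range 3510).all (fun q =>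
    Nat.beq q 0 || Nat.beq q 1 || Nat.beq q 2 ||
      genWords.any fun w => !(Nat.beq (table.imgW w q) q)) = true := by
  decide +kernel

theorem half_ok : (List.range 7).all (fun x =>
    halfK (cPts.getD (gIx.getD x 0) 3510) (genHalf.getD x ([], 0)) &&
      decide (fullWord (genHalf.getD x ([], 0)) = genWords.getD x [])) = true := by
  decide +kernel

theorem words_lt9 : ∀ w ∈ genWords, ∀ x ∈ w, x < 9 := by decide +kernel

theorem words_fix : ∀ w ∈ genWords, table.imgW w 0 = 0 ∧ table.imgW w 2 = 2 := by decide +kernel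

theorem agree : (List.range 7).all (fun x => (List.range 126).all fun u =>
    Nat.beq (table.imgW (genWords.getD x []) (cPts.getD u 3510)) (cPts.getD (tab6.img x u) 3510) &&
      Nat.blt (tab6.img x u) 126) = true := by
  decide +kernel

theorem refl_agree : ∀ x : Fin 7, ∀ u : Fin 126,
    (lineOf (vec u + dot6 (vec ⟨gIx.getD x 0 % 126, Nat.mod_lt _ (by norm_num)⟩) (vec u) •
      vec ⟨gIx.getD x 0 % 126, Nat.mod_lt _ (by norm_num)⟩) : ℕ) = tab6.img x u := by
  decide +kernel

theorem tab6_slp : tab6.slpOK = true := by decide +kernel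

theorem searchPts_ok : tab6.orbitOK [0, 1, 2, 3, 4, 5, 6, 9, 23, 28] 0 searchPts = true := by decide +kernel

theorem searchPts_len : searchPts.length = 125 := by decide +kernel

theorem searchMoved_ok : tab6.orbitOK rowsStab 1 searchMoved = true := by decide +kernel

theorem rowsStab_fix : ∀ r ∈ rowsStab, r < tab6.nl + tab6.slp.length ∧ tab6.img r 0 = 0 := by decide +kernel

theorem moved_covered : ∀ u : Fin 126, tab6.img 0 u ≠ u →
    Nat.testBit (tab6.orbitMask rowsStab 1 searchMoved) u = true := by
  decide +kernel

theorem chain6_ok : tab6.chainOK chain6 [] = true := by decide +kernel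

theorem chain6_prod : PTab.chainProd chain6 = 6531840 := by decide +kernel

theorem six_pairs : ∀ p ∈ [0, 1, 2], ∀ q ∈ [0, 1, 2], p ≠ q →
    ∃ L ∈ ([[], [0], [1], [0, 1], [1, 0], [0, 1, 0]] : List (List ℕ)),
      table.imgW L 0 = p ∧ table.imgW L 2 = q := by
  decide +kernel

end CfsgLib.Sporadic.FiTransfer.ThreeA
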