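import Cfsg.Agent.Lib.Sporadic.FiTransfer.ThreeA.Checks
import Cfsg.Agent.Lib.Sporadic.FiTransfer.Model

/-!
# The joint centraliser of two non-commuting transpositions of Fi22

It is generated by seven transpositions, acts faithfully on the 126 transpositions it contains, and is
the projective reflection group of a six-dimensional orthogonal space over the field with three elements.
-/

set_option autoImplicit false
set_option maxRecDepth 100000

open Cfsg.Spor QuadraticMap CfsgLib.Orth CfsgLib.ThreeTransp.ReflThree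
open CfsgLib.Sporadic.CosetCert CfsgLib.Sporadic.CosetCert.FiP CfsgLib.Sporadic.CosetCert.FiP.OutFi22
open CfsgLib.Sporadic.CosetCert.FiData (table)

namespace CfsgLib.Sporadic.FiTransfer.ThreeA

attribute [local irreducible] PTab.img

theorem fix_iff_commute {g : Fi22} {p : Fin table.N} : hom g p = p ↔ Commute g (dp p) := by
  refine ⟨comm_of_fix, fun h => dp_injective ?_⟩
  rw [← conj_dp, h.eq, mul_inv_cancel_right]

theorem classTr_eq_range : classTr = Set.range dp := by
  have e : FiP.tr = dp pt := by rw [dp_pt]; exact (coding.gen_code Fi22.Gen.a).symm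
  ext y
  constructor
  · intro hy
    obtain ⟨g, rfl⟩ := isConj_iff.1 hy
    exact ⟨hom g pt, by rw [← conj_dp, ← e]⟩
  · rintro ⟨p, rfl⟩
    obtain ⟨c, rfl⟩ := transitive p
    rw [← conj_dp, ← e]
    exact classTr_conj mem_classTr_self

theorem dp_gpt_zero : dp (gpt 0) = coding.gen 0 := (gen_eq_dp 0 (by norm_num)).symm

theorem gpt_zero : gpt 0 = pt := dp_injective (by rw [dp_gpt_zero, dp_pt])

theorem gpt_one_val : (gpt 1 : ℕ) = 2 := gpt_val (by norm_num)

theorem gen_fix_iff {x : ℕ} (hx : x < 9) {q : Fin table.N} :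
    hom (coding.gen x) q = q ↔ table.imgW [x] q = q := by
  rw [← el_single, Fin.ext_iff, el_img (by simpa using hx)]

/-- The joint centraliser of the first two generators. -/
noncomputable def pairC : Subgroup Fi22 :=
  Subgroup.centralizer ({coding.gen 0, coding.gen 1} : Set Fi22)

theorem mem_pairC {g : Fi22} : g ∈ pairC ↔ hom g pt = pt ∧ hom g (gpt 1) = gpt 1 := by
  rw [fix_iff_commute, fix_iff_commute, dp_pt, ← gen_eq_dp 1 (by norm_num), pairC,
    Subgroup.mem_centralizer_iff]
  constructor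
  · intro h
    exact ⟨(h _ (Or.inl rfl)).symm, (h _ (Or.inr rfl)).symm⟩
  · rintro ⟨h0, h1⟩ y (rfl | rfl)
    exacts [h0.eq.symm, h1.eq.symm]

/-- The points of the transpositions commuting with the first two generators. -/
def Common (q : Fin table.N) : Prop :=
  hom (coding.gen 0) q = q ∧ hom (coding.gen 1) q = q ∧ q ≠ pt ∧ q ≠ gpt 1

/-- The points by number. -/
noncomputable def cPt (u : Fin 126) : Fin table.N := ⟨cPts.getD u 3510, cPts_lt u u.2⟩

theorem cPt_injective : Function.Injective cPt := by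
  intro u v h
  have hu : (u : ℕ) < cPts.length := by rw [cPts_len]; exact u.2
  have hv : (v : ℕ) < cPts.length := by rw [cPts_len]; exact v.2
  have e : cPts.getD u 3510 = cPts.getD v 3510 := congrArg Fin.val h
  rw [List.getD_eq_getElem _ _ hu, List.getD_eq_getElem _ _ hv, cPts_nodup.getElem_inj_iff] at e
  exact Fin.ext e

theorem common_cPt (u : Fin 126) : Common (cPt u) := by
  have hu : (u : ℕ) < cPts.length := by rw [cPts_len]; exact u.2
  have h := List.all_eq_true.1 cPts_common (cPts.getD u 3510)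
    (by rw [List.getD_eq_getElem _ _ hu]; exact List.getElem_mem hu)
  simp only [Bool.and_eq_true, Bool.not_eq_true'] at h
  obtain ⟨⟨⟨h0, h1⟩, h2⟩, h3⟩ := h
  refine ⟨(gen_fix_iff (by norm_num)).2 (Nat.eq_of_beq_eq_true h0),
    (gen_fix_iff (by norm_num)).2 (Nat.eq_of_beq_eq_true h1), fun e => ?_, fun e => ?_⟩
  · rw [Nat.beq_eq.mpr (show cPts.getD u 3510 = 0 from congrArg Fin.val e)] at h2
    exact Bool.noConfusion h2
  · rw [Nat.beq_eq.mpr (show cPts.getD u 3510 = 2 from (congrArg Fin.val e).trans gpt_one_val)] at h3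
    exact Bool.noConfusion h3

theorem exists_cPt {q : Fin table.N} (h : Common q) : ∃ u, cPt u = q := by
  have hs := List.all_eq_true.1 common_scan q.1 (List.mem_range.2 q.2)
  rw [Nat.beq_eq.mpr ((gen_fix_iff (by norm_num)).1 h.1),
    Nat.beq_eq.mpr ((gen_fix_iff (by norm_num)).1 h.2.1)] at hs
  simp only [Bool.and_self, Bool.not_true, Bool.false_or, Bool.or_eq_true] at hs
  rcases hs with (hs | hs) | hs
  · exact absurd (Fin.ext (Nat.eq_of_beq_eq_true hs)) h.2.2.1
  · exact absurd (Fin.ext ((Nat.eq_of_beq_eq_true hs).trans gpt_one_val.symm)) h.2.2.2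
  · obtain ⟨i, hi, e⟩ := List.mem_iff_getElem.1 (List.contains_iff_mem.1 hs)
    exact ⟨⟨i, cPts_len ▸ hi⟩, Fin.ext (((List.getD_eq_getElem _ _ hi)).trans e)⟩

theorem common_move {g : Fi22} (hg : g ∈ pairC) {q : Fin table.N} (h : Common q) : Common (hom g q) := by
  have hc := Subgroup.mem_centralizer_iff.1 hg
  obtain ⟨h0, h1⟩ := mem_pairC.1 hg
  refine ⟨?_, ?_, fun e => h.2.2.1 ((hom g).injective (e.trans h0.symm)),
    fun e => h.2.2.2 ((hom g).injective (e.trans h1.symm))⟩
  · rw [← Equiv.Perm.mul_apply, ← map_mul, hc _ (Or.inl rfl), map_mul, Equiv.Perm.mul_apply, h.1]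
  · rw [← Equiv.Perm.mul_apply, ← map_mul, hc _ (Or.inr rfl), map_mul, Equiv.Perm.mul_apply, h.2.1]

/-- Where an element of the joint centraliser sends a numbered point. -/
noncomputable def move (g : pairC) (u : Fin 126) : Fin 126 :=
  (exists_cPt (common_move g.2 (common_cPt u))).choose

theorem cPt_move (g : pairC) (u : Fin 126) : cPt (move g u) = hom g.1 (cPt u) :=
  (exists_cPt (common_move g.2 (common_cPt u))).choose_spec

theorem move_mul (g h : pairC) (u : Fin 126) : move (g * h) u = move g (move h u) :=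
  cPt_injective (by
    rw [cPt_move, cPt_move, cPt_move, Subgroup.coe_mul, map_mul, Equiv.Perm.mul_apply])

theorem move_one (u : Fin 126) : move 1 u = u :=
  cPt_injective (by rw [cPt_move, OneMemClass.coe_one, map_one, Equiv.Perm.one_apply])

/-- The action on the 126 points. -/
noncomputable def phi : pairC →* Equiv.Perm (Fin 126) where
  toFun g :=
    { toFun := move g
      invFun := move g⁻¹
      left_inv := fun u => by rw [← move_mul, inv_mul_cancel, move_one]
      right_inv := fun u => by rw [← move_mul, mul_inv_cancel, move_one] }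
  map_one' := Equiv.ext move_one
  map_mul' g h := Equiv.ext (move_mul g h)

theorem cPt_phi (g : pairC) (u : Fin 126) : cPt (phi g u) = hom g.1 (cPt u) := cPt_move g u

/-- The number of the point of the `x`-th of the seven transpositions. -/
noncomputable def gNum (x : ℕ) : Fin 126 := ⟨gIx.getD x 0 % 126, Nat.mod_lt _ (by norm_num)⟩

theorem gNum_val : ∀ x < 7, (gNum x : ℕ) = gIx.getD x 0 := by
  intro x hx
  have h : ∀ y < 7, gIx.getD y 0 % 126 = gIx.getD y 0 := by decide
  exact h x hx

theorem dp_mem_pairC (u : Fin 126) : dp (cPt u) ∈ pairC := by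
  rw [pairC, Subgroup.mem_centralizer_iff]
  rintro y (rfl | rfl)
  · exact comm_of_fix (common_cPt u).1
  · exact comm_of_fix (common_cPt u).2.1

/-- The seven transpositions. -/
noncomputable def g7 (x : ℕ) : pairC := ⟨dp (cPt (gNum x)), dp_mem_pairC _⟩

theorem g7_word {x : ℕ} (hx : x < 7) :
    (g7 x).1 = el (genWords.getD x []) ∧ ∀ y ∈ genWords.getD x [], y < 9 := by
  have h := List.all_eq_true.1 half_ok x (List.mem_range.2 hx)
  rw [Bool.and_eq_true, decide_eq_true_eq] at h
  have e : ((cPt (gNum x) : Fin table.N) : ℕ) = cPts.getD (gIx.getD x 0) 3510 := by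
    show cPts.getD (gNum x) 3510 = _
    rw [gNum_val x hx]
  have hK : halfK (cPt (gNum x) : Fin table.N) (genHalf.getD x ([], 0)) = true := e ▸ h.1
  rw [← h.2]
  exact ⟨dp_of_half hK, fullWord_lt hK⟩

theorem acts : tab6.Acts phi g7 := by
  refine ⟨fun x hx u => ?_⟩
  have h := List.all_eq_true.1 (List.all_eq_true.1 agree x (List.mem_range.2 hx)) u.1
    (List.mem_range.2 u.2)
  rw [Bool.and_eq_true, Nat.blt_eq] at h
  have key : ∀ v : Fin 126, (v : ℕ) = u → ((phi (g7 x) v : Fin 126) : ℕ) = tab6.img x u := by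
    intro v hv
    rw [← hv] at h ⊢
    have e : phi (g7 x) v = ⟨tab6.img x v, h.2⟩ := cPt_injective (Fin.ext (by
      rw [cPt_phi, (g7_word hx).1, el_img (g7_word hx).2]
      exact Nat.eq_of_beq_eq_true h.1))
    rw [e]
  exact key u rfl

theorem actQ_g7 {x : ℕ} (hx : x < 7) : actQ (refl Q6 (vec (gNum x))) = phi (g7 x) := by
  refine Equiv.ext fun u => Fin.ext ?_
  rw [actQ_refl]
  exact (refl_agree ⟨x, hx⟩ u).trans (acts.img_eq x hx u).symm

theorem dp_injective_fix {g : Fi22} (hg : g ∈ pairC) (h : ∀ u : Fin 126, hom g (cPt u) = cPt u) :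
    g = 1 := by
  obtain ⟨h0, h1⟩ := mem_pairC.1 hg
  have h6 : ∀ x, 3 ≤ x → x < 9 → hom g (gpt x) = gpt x := by
    intro x hx3 hx9
    have hc : ∀ y, 3 ≤ y → y < 9 → cPts.getD (gIx.getD (y - 3) 0) 3510 = genPts.getD y 3510 := by
      intro y h3 h9
      interval_cases y <;> decide
    have e : gpt x = cPt (gNum (x - 3)) := Fin.ext (by
      rw [gpt_val hx9, ← hc x hx3 hx9]
      show _ = cPts.getD (gNum (x - 3)) 3510
      rw [gNum_val _ (by omega)])
    rw [e, h]
  have hfix : ∀ x, x < 9 → x ≠ 2 → hom g (gpt x) = gpt x := by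
    intro x hx hx2
    rcases Nat.lt_or_ge x 3 with h3 | h3
    · interval_cases x
      · rw [gpt_zero]; exact h0
      · exact h1
      · exact absurd rfl hx2
    · exact h6 x h3 hx
  have h2 : hom g (gpt 2) = gpt 2 := by
    have hv : (gpt 2 : ℕ) = 6 := gpt_val (by norm_num)
    have hs := List.all_eq_true.1 third_unique _ (List.mem_range.2 (hom g (gpt 2)).2)
    rw [Bool.or_eq_true] at hs
    rcases hs with hs | hs
    · exact Fin.ext ((Nat.eq_of_beq_eq_true hs).trans hv.symm)
    · exfalso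
      obtain ⟨x, hx, hne⟩ := List.any_eq_true.1 hs
      have hx9 : x < 9 ∧ x ≠ 2 := by
        have : ∀ y ∈ ([0, 1, 3, 4, 5, 6, 7, 8] : List ℕ), y < 9 ∧ y ≠ 2 := by decide
        exact this x hx
      have hc : Commute g (coding.gen x) := by
        rw [gen_eq_dp x hx9.1]; exact comm_of_fix (hfix x hx9.1 hx9.2)
      have hiff : hom (coding.gen x) (hom g (gpt 2)) = hom g (gpt 2) ↔
          hom (coding.gen x) (gpt 2) = gpt 2 := by
        rw [← Equiv.Perm.mul_apply, ← map_mul, ← hc.eq, map_mul, Equiv.Perm.mul_apply,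
          (hom g).injective.eq_iff]
      rw [gen_fix_iff hx9.1, gen_fix_iff hx9.1, hv] at hiff
      revert hne
      rw [show Nat.beq (table.imgW [x] (hom g (gpt 2)).1) (hom g (gpt 2)).1 =
          Nat.beq (table.imgW [x] 6) 6 from Bool.eq_iff_iff.2 (by simpa using hiff)]
      simp
  exact eq_one_of_fix fun x hx => if e : x = 2 then e ▸ h2 else hfix x hx e

theorem phi_injective : Function.Injective phi := by
  rw [injective_iff_map_eq_one]
  intro g hg
  exact Subtype.ext (dp_injective_fix g.2 fun u => by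
    rw [← cPt_phi, hg, Equiv.Perm.one_apply])

/-- The subgroup generated by the seven transpositions, as permutations. -/
noncomputable def P7 : Subgroup (Equiv.Perm (Fin 126)) :=
  (Subgroup.closure (g7 '' Set.Iio 7)).map phi

theorem phi_el_mem (r : ℕ) : phi (tab6.el g7 r) ∈ P7 :=
  Subgroup.mem_map_of_mem phi (PTab.el_mem (T := tab6) g7 r)

theorem orbit_P7 (u : Fin 126) : ∃ k ∈ Subgroup.closure (g7 '' Set.Iio 7), phi k ⟨0, by norm_num⟩ = u := by
  obtain ⟨h1, h2⟩ := PTab.orbit_eq acts tab6_slp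
    (S := [0, 1, 2, 3, 4, 5, 6, 9, 23, 28]) (by decide +kernel) (⟨0, by norm_num⟩ : Fin 126)
    searchPts searchPts_ok
  have h3 : tab6.maskSet (tab6.orbitMask [0, 1, 2, 3, 4, 5, 6, 9, 23, 28] 0 searchPts) = Finset.univ := by
    apply Finset.eq_univ_of_card
    rw [h2, searchPts_len, Fintype.card_fin]
    rfl
  have hu := (Set.ext_iff.1 h1 u).2 (Finset.mem_coe.2 (h3 ▸ Finset.mem_univ _))
  obtain ⟨⟨π, hπ⟩, he⟩ := hu
  obtain ⟨k, hk, rfl⟩ := Subgroup.mem_map.1
    ((Subgroup.closure_le P7).2 (by rintro _ ⟨r, -, rfl⟩; exact phi_el_mem r) hπ)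
  exact ⟨k, hk, he⟩

theorem g7_zero : gNum 0 = ⟨0, by norm_num⟩ := rfl

theorem dp_cPt_eq (u : Fin 126) : ∃ k ∈ Subgroup.closure (g7 '' Set.Iio 7),
    (⟨dp (cPt u), dp_mem_pairC u⟩ : pairC) = k * g7 0 * k⁻¹ := by
  obtain ⟨k, hk, e⟩ := orbit_P7 u
  refine ⟨k, hk, Subtype.ext ?_⟩
  show dp (cPt u) = k.1 * dp (cPt (gNum 0)) * k.1⁻¹
  rw [conj_dp, ← cPt_phi, g7_zero, e]

theorem actQ_refl_mem (u : Fin 126) : actQ (refl Q6 (vec u)) ∈ P7 := by
  obtain ⟨k, hk, e⟩ := orbit_P7 u
  have hg : ∀ x < 7, phi (g7 x) ∈ actQ.range := fun x hx => ⟨_, actQ_g7 hx⟩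
  have hle : P7 ≤ actQ.range := by
    rw [P7, MonoidHom.map_closure, Subgroup.closure_le]
    rintro _ ⟨_, ⟨x, hx, rfl⟩, rfl⟩
    exact hg x hx
  obtain ⟨r, hr⟩ := hle (Subgroup.mem_map_of_mem phi hk)
  have h := congrArg actQ (conj_refl_vec r (gNum 0))
  rw [map_mul, map_mul, map_inv, hr, actQ_g7 (by norm_num), g7_zero, e] at h
  rw [← h, ← map_inv, ← map_mul, ← map_mul]
  exact Subgroup.mem_map_of_mem phi
    (mul_mem (mul_mem hk (Subgroup.subset_closure ⟨0, by norm_num, rfl⟩)) (inv_mem hk))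

theorem actR_range : actR.range = P7 := by
  apply le_antisymm
  · rw [actR, MonoidHom.range_comp, Subgroup.range_subtype]
    conv_lhs => rw [R0_eq]
    rw [MonoidHom.map_closure, Subgroup.closure_le]
    rintro _ ⟨_, ⟨p, rfl⟩, rfl⟩
    exact actQ_refl_mem p
  · rw [P7, MonoidHom.map_closure, Subgroup.closure_le]
    rintro _ ⟨_, ⟨x, hx, rfl⟩, rfl⟩
    exact ⟨⟨_, refl_mem (norm_vec _)⟩, actQ_g7 hx⟩

theorem card_grpH : Nat.card grpH * 3510 = 64561751654400 := by
  rw [← index_H_eq, Subgroup.card_mul_index, card_eq.1]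

theorem card_pairC : Nat.card pairC = 6531840 := by
  classical
  have := finite
  obtain ⟨O₂, hO₂, e₂, hc₂⟩ := suborbit (b := 1) (by decide +kernel) FiData.search2816_ok
  rw [show FiData.search2816.length = 2815 by decide +kernel] at hc₂
  have hmem : gpt 1 ∈ O₂ := by
    rw [e₂, PTab.mem_maskSet, gpt_one_val]
    decide +kernel
  letI : MulAction grpH (Fin table.N) := MulAction.compHom _ (hom.comp grpH.subtype)
  have horb : MulAction.orbit grpH (gpt 1) = ↑O₂ := by
    rw [← Finset.mem_coe, hO₂] at hmem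
    rw [hO₂, ← MulAction.orbit_eq_iff.2 hmem]
    ext u
    constructor
    · rintro ⟨h, rfl⟩
      exact ⟨⟨hom h.1, Subgroup.mem_map_of_mem hom h.2⟩, rfl⟩
    · rintro ⟨⟨π, hπ⟩, rfl⟩
      obtain ⟨h, hh, rfl⟩ := Subgroup.mem_map.1 hπ
      exact ⟨⟨h, hh⟩, rfl⟩
  have hidx : (MulAction.stabilizer grpH (gpt 1)).index = 2816 := by
    rw [MulAction.index_stabilizer, horb, Set.ncard_coe_finset, hc₂]
  have hst : (MulAction.stabilizer grpH (gpt 1)).map grpH.subtype = pairC := by
    ext g
    rw [Subgroup.mem_map, mem_pairC]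
    constructor
    · rintro ⟨h, hh, rfl⟩
      exact ⟨hom_fix _ h.2, hh⟩
    · rintro ⟨h0, h1⟩
      exact ⟨⟨g, stab_le h0⟩, h1, rfl⟩
  have h := (MulAction.stabilizer grpH (gpt 1)).card_mul_index
  rw [hidx, ← Subgroup.card_map_of_injective grpH.subtype_injective, hst] at h
  have := card_grpH
  omega

theorem closure_g7 : Subgroup.closure (g7 '' Set.Iio 7) = ⊤ := by
  have := finite
  apply Subgroup.eq_top_of_le_card
  rw [card_pairC, ← chain6_prod]
  refine le_trans (PTab.chainProd_le_card acts tab6_slp _ [] P7 chain6_ok fun e _ r _ _ => phi_el_mem r) ?_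
  exact (Nat.card_congr (Subgroup.equivMapOfInjective _ phi phi_injective).toEquiv.symm).le

theorem range_phi : phi.range = P7 := by rw [P7, closure_g7, MonoidHom.range_eq_map]

/-- The quotient of the reflection group by its centre is the joint centraliser. -/
theorem pairC_iso : Cfsg.IsProjReflectionGroupModThree pairC 6 1 1 := by
  refine ⟨Q6, Q6_nondegenerate, polarGramDet_Q6, ?_⟩
  let e1 : pairC ≃* R0 Q6 1 ⧸ Subgroup.center (R0 Q6 1) :=
    (MonoidHom.ofInjective phi_injective).trans <|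
      (MulEquiv.subgroupCongr (range_phi.trans actR_range.symm)).trans <|
        (QuotientGroup.quotientKerEquivRange actR).symm.trans
          (QuotientGroup.quotientMulEquivOfEq actR_ker)
  let e2 : R0 Q6 1 ≃* Cfsg.reflectionSubgroup (⇑Q6) 1 :=
    ((MulEquiv.subgroupCongr (reflectionSubgroup_eq Q6 1)).trans
      ((toOrth Q6 (fun _ => rfl)).subgroupMap _ |>.trans
        (MulEquiv.subgroupCongr (Subgroup.map_comap_eq_self_of_surjective
          (toOrth Q6 (fun _ => rfl)).surjective _)))).symm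
  refine ⟨e1.trans (QuotientGroup.congr _ _ e2 ?_)⟩
  ext y
  show y ∈ Subgroup.map e2.toMonoidHom _ ↔ _
  rw [Subgroup.mem_map_equiv, Subgroup.mem_center_iff, Subgroup.mem_center_iff]
  constructor
  · intro hy g
    simpa using congrArg e2 (hy (e2.symm g))
  · intro hy g
    apply e2.injective
    simpa using hy (e2 g)

theorem closure_common : Subgroup.closure {y : Fi22 | y ∈ classTr ∧ Commute (coding.gen 0) y ∧
    Commute (coding.gen 1) y ∧ y ≠ coding.gen 0 ∧ y ≠ coding.gen 1} = pairC := by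
  apply le_antisymm
  · rw [Subgroup.closure_le]
    rintro y ⟨-, h0, h1, -, -⟩
    rw [SetLike.mem_coe, pairC, Subgroup.mem_centralizer_iff]
    rintro z (rfl | rfl)
    exacts [h0.eq, h1.eq]
  · have h : (Subgroup.closure (g7 '' Set.Iio 7)).map pairC.subtype = pairC := by
      rw [closure_g7, ← MonoidHom.range_eq_map, Subgroup.range_subtype]
    conv_lhs => rw [← h]
    rw [MonoidHom.map_closure, Subgroup.closure_le]
    rintro _ ⟨_, ⟨x, -, rfl⟩, rfl⟩
    refine Subgroup.subset_closure ⟨classTr_eq_range ▸ ⟨_, rfl⟩, comm_of_fix (common_cPt _).1,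
      comm_of_fix (common_cPt _).2.1, fun e => ?_, fun e => ?_⟩
    · exact (common_cPt (gNum x)).2.2.1 (dp_injective (e.trans dp_pt.symm))
    · exact (common_cPt (gNum x)).2.2.2 (dp_injective (e.trans (gen_eq_dp 1 (by norm_num))))

end CfsgLib.Sporadic.FiTransfer.ThreeA
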