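import Cfsg.Agent.Lib.Sporadic.FiTransfer.ThreeA.Data
import Cfsg.Agent.Lib.ThreeTransp.ReflThree
import Mathlib.GroupTheory.QuotientGroup.Basic

/-!
# The lines of norm one of a six-dimensional orthogonal space over the field with three elements

The reflections with centres of norm one act on the 126 lines; the kernel of the action of the group
they generate is its centre.
-/

set_option autoImplicit false
set_option maxRecDepth 100000

open QuadraticMap CfsgLib.Orth CfsgLib.ThreeTransp.ReflThree

namespace CfsgLib.Sporadic.FiTransfer.ThreeA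

abbrev W6 : Type := Fin 6 → ZMod 3

/-- The sum of the products of the coordinates. -/
def dot6 (v w : W6) : ZMod 3 := v 0 * w 0 + v 1 * w 1 + v 2 * w 2 + v 3 * w 3 + v 4 * w 4 + v 5 * w 5

/-- The sum of six squares. -/
noncomputable def Q6 : QuadraticForm (ZMod 3) W6 :=
  QuadraticMap.weightedSumSquares (ZMod 3) fun _ : Fin 6 => (1 : ZMod 3)

theorem Q6_apply (v : W6) : Q6 v = dot6 v v := by
  simp [Q6, QuadraticMap.weightedSumSquares_apply, Fin.sum_univ_succ, dot6]
  ring!

theorem polar_Q6 (v w : W6) : polar Q6 v w = 2 * dot6 v w := by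
  simp only [polar, Q6_apply, dot6, Pi.add_apply]
  ring

theorem polarGramDet_Q6 : Cfsg.polarGramDet (⇑Q6) = 1 := by
  rw [Cfsg.polarGramDet, show (Matrix.of fun i j : Fin 6 =>
      QuadraticMap.polar (⇑Q6) (Pi.single i 1) (Pi.single j 1)) = (2 : ZMod 3) • (1 : Matrix (Fin 6) (Fin 6) (ZMod 3)) by
    ext i j
    rw [Matrix.of_apply, polar_Q6, Matrix.smul_apply, Matrix.one_apply, smul_eq_mul]
    revert i j
    decide +kernel]
  rw [Matrix.det_smul, Matrix.det_one, Fintype.card_fin]
  decide

theorem Q6_nondegenerate : (polarBilin Q6).Nondegenerate := by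
  refine LinearMap.BilinForm.nondegenerate_of_det_ne_zero _ (Pi.basisFun (ZMod 3) (Fin 6)) ?_
  rw [show LinearMap.BilinForm.toMatrix (Pi.basisFun (ZMod 3) (Fin 6)) (polarBilin Q6) =
      Matrix.of fun i j : Fin 6 => QuadraticMap.polar (⇑Q6) (Pi.single i 1) (Pi.single j 1) by
    ext i j
    simp [LinearMap.BilinForm.toMatrix_apply]]
  have h := polarGramDet_Q6
  rw [Cfsg.polarGramDet] at h
  rw [h]
  exact one_ne_zero

/-- A vector from its number in base three. -/
def vecOf (n : ℕ) : W6 := fun i => ((n / 3 ^ (i : ℕ) % 3 : ℕ) : ZMod 3)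

/-- The number of a vector in base three. -/
def enc (v : W6) : ℕ :=
  (v 0).val + 3 * (v 1).val + 9 * (v 2).val + 27 * (v 3).val + 81 * (v 4).val + 243 * (v 5).val

theorem enc_lt (v : W6) : enc v < 729 := by
  have := fun i => ZMod.val_lt (v i)
  have h0 := this 0; have h1 := this 1; have h2 := this 2
  have h3 := this 3; have h4 := this 4; have h5 := this 5
  simp only [enc]; omega

theorem vecOf_enc (v : W6) : vecOf (enc v) = v := by
  have := fun i => ZMod.val_lt (v i)
  have h0 := this 0; have h1 := this 1; have h2 := this 2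
  have h3 := this 3; have h4 := this 4; have h5 := this 5
  funext i
  show ((enc v / 3 ^ (i : ℕ) % 3 : ℕ) : ZMod 3) = v i
  conv_rhs => rw [← ZMod.natCast_zmod_val (v i)]
  congr 1
  simp only [enc]
  fin_cases i <;> simp <;> omega

/-- The vector of a point. -/
def vec (u : Fin 126) : W6 := vecOf (vecCodes.getD u 0)

/-- The line of a vector of norm one. -/
def lineOf (v : W6) : Fin 126 := ⟨lineIx.getD (enc v) 0 % 126, Nat.mod_lt _ (by norm_num)⟩

theorem lineOf_vec : ∀ u : Fin 126, lineOf (vec u) = u ∧ lineOf (-vec u) = u ∧ dot6 (vec u) (vec u) = 1 := by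
  decide +kernel

theorem line_table : ∀ n : Fin 729, dot6 (vecOf n) (vecOf n) = 1 →
    vec (lineOf (vecOf n)) = vecOf n ∨ vec (lineOf (vecOf n)) = -vecOf n := by
  decide +kernel

theorem line_spec {v : W6} (hv : dot6 v v = 1) : v = vec (lineOf v) ∨ v = -vec (lineOf v) := by
  have h := line_table ⟨enc v, enc_lt v⟩
  rw [vecOf_enc] at h
  rcases h hv with e | e
  · exact Or.inl e.symm
  · exact Or.inr (by rw [e, neg_neg])

theorem lineOf_eq {v : W6} {u : Fin 126} (h : v = vec u ∨ v = -vec u) : lineOf v = u := by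
  rcases h with rfl | rfl
  · exact (lineOf_vec u).1
  · exact (lineOf_vec u).2.1

theorem norm_vec (u : Fin 126) : Q6 (vec u) = 1 := by rw [Q6_apply, (lineOf_vec u).2.2]

theorem line_spec' {v : W6} (hv : Q6 v = 1) : v = vec (lineOf v) ∨ v = -vec (lineOf v) :=
  line_spec (by rwa [Q6_apply] at hv)

theorem lineOf_neg {v : W6} (hv : Q6 v = 1) : lineOf (-v) = lineOf v := by
  refine lineOf_eq ?_
  rcases line_spec' hv with h | h
  · exact Or.inr (congrArg Neg.neg h)
  · exact Or.inl ((congrArg Neg.neg h).trans (neg_neg _))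

theorem norm_image (g : orthGroup Q6) (u : Fin 126) : Q6 (g.1 (vec u)) = 1 := by
  rw [apply_quad, norm_vec]

/-- The permutation of the lines by an isometry. -/
noncomputable def lineMap (g : orthGroup Q6) (u : Fin 126) : Fin 126 := lineOf (g.1 (vec u))

theorem lineMap_mul (g h : orthGroup Q6) (u : Fin 126) : lineMap (g * h) u = lineMap g (lineMap h u) := by
  show lineOf (g.1 (h.1 (vec u))) = lineOf (g.1 (vec (lineOf (h.1 (vec u)))))
  rcases line_spec' (norm_image h u) with e | e
  · rw [← e]
  · conv_lhs => rw [e, map_neg]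
    exact lineOf_neg (norm_image g _)

theorem lineMap_one (u : Fin 126) : lineMap 1 u = u := (lineOf_vec u).1

/-- The action on the lines. -/
noncomputable def actQ : orthGroup Q6 →* Equiv.Perm (Fin 126) where
  toFun g :=
    { toFun := lineMap g
      invFun := lineMap g⁻¹
      left_inv := fun u => by rw [← lineMap_mul, inv_mul_cancel, lineMap_one]
      right_inv := fun u => by rw [← lineMap_mul, mul_inv_cancel, lineMap_one] }
  map_one' := Equiv.ext lineMap_one
  map_mul' g h := Equiv.ext (lineMap_mul g h)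

/-- The reflection in a vector of norm one. -/
theorem refl_formula {a : W6} (ha : Q6 a = 1) (v : W6) : (refl Q6 a).1 v = v + dot6 a v • a := by
  have h2 : ∀ d : ZMod 3, 2 * d = -d := by decide
  rw [refl_apply, ha, inv_one, one_mul, polar_Q6, h2, neg_smul, sub_neg_eq_add]

theorem actQ_refl (p u : Fin 126) :
    actQ (refl Q6 (vec p)) u = lineOf (vec u + dot6 (vec p) (vec u) • vec p) := by
  show lineOf ((refl Q6 (vec p)).1 (vec u)) = _
  rw [refl_formula (norm_vec p)]

theorem refl_line {v : W6} (hv : Q6 v = 1) : refl Q6 v = refl Q6 (vec (lineOf v)) := by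
  rcases line_spec' hv with e | e
  · rw [← e]
  · conv_lhs => rw [e, ← neg_one_smul (ZMod 3) (vec _), CfsgLib.Orth.refl_smul Q6 (by decide)]

theorem conj_refl_vec (g : orthGroup Q6) (p : Fin 126) :
    g * refl Q6 (vec p) * g⁻¹ = refl Q6 (vec (actQ g p)) := by
  rw [conj_refl]
  exact refl_line (norm_image g p)

theorem refl_vec_injective : Function.Injective fun p => refl Q6 (vec p) := by
  intro p q h
  have h2 : ∀ d : ZMod 3, d + d = -d := by decide
  have h1 := congrArg (fun r : orthGroup Q6 => r.1 (vec p)) (show refl Q6 (vec p) = refl Q6 (vec q) from h)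
  simp only [refl_formula (norm_vec _), (lineOf_vec p).2.2, one_smul] at h1
  have h3 : vec p = dot6 (vec q) (vec p) • vec q := add_left_cancel h1
  have h4 : lineOf (vec p) = q := by
    have key : ∀ t : ZMod 3, t = 0 ∨ t = 1 ∨ t = -1 := by decide
    rcases key (dot6 (vec q) (vec p)) with e | e | e <;> rw [e] at h3
    · exfalso
      have := (lineOf_vec p).2.2
      rw [h3, zero_smul] at this
      exact absurd this (by decide)
    · exact lineOf_eq (Or.inl (by rw [h3, one_smul]))
    · exact lineOf_eq (Or.inr (by rw [h3, neg_smul, one_smul]))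
  rw [← h4, (lineOf_vec p).1]

theorem R0_eq : R0 Q6 1 = Subgroup.closure (Set.range fun p => refl Q6 (vec p)) := by
  show Subgroup.closure _ = _
  congr 1
  ext g
  constructor
  · rintro ⟨v, hv, rfl⟩
    exact ⟨lineOf v, (refl_line hv).symm⟩
  · rintro ⟨p, rfl⟩
    exact ⟨vec p, norm_vec p, rfl⟩

/-- The action of the group generated by the reflections. -/
noncomputable def actR : R0 Q6 1 →* Equiv.Perm (Fin 126) := actQ.comp (R0 Q6 1).subtype

theorem actR_ker : actR.ker = Subgroup.center (R0 Q6 1) := by
  ext g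
  rw [MonoidHom.mem_ker, Subgroup.mem_center_iff]
  constructor
  · intro hg x
    have hc : R0 Q6 1 ≤ Subgroup.centralizer ({(g : orthGroup Q6)} : Set (orthGroup Q6)) := by
      conv_lhs => rw [R0_eq]
      refine (Subgroup.closure_le _).2 ?_
      rintro _ ⟨p, rfl⟩
      rw [SetLike.mem_coe, Subgroup.mem_centralizer_singleton_iff]
      have h := conj_refl_vec g.1 p
      rw [show actQ g.1 = 1 from hg, Equiv.Perm.one_apply, mul_inv_eq_iff_eq_mul] at h
      exact h.symm
    exact Subtype.ext (Subgroup.mem_centralizer_singleton_iff.1 (hc x.2))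
  · intro hg
    refine Equiv.ext fun p => ?_
    have hp : refl Q6 (vec p) ∈ R0 Q6 1 := refl_mem (norm_vec p)
    have h := conj_refl_vec g.1 p
    have h1 : refl Q6 (vec p) * g.1 = g.1 * refl Q6 (vec p) := congrArg Subtype.val (hg ⟨_, hp⟩)
    rw [← h1, mul_inv_cancel_right] at h
    exact (refl_vec_injective h).symm

/-- Commuting transpositions of the lines come from perpendicular vectors. -/
theorem perp_of_fix {p q : Fin 126} (hne : p ≠ q) (h : actQ (refl Q6 (vec p)) q = q) :
    dot6 (vec p) (vec q) = 0 := by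
  rw [actQ_refl] at h
  set t := dot6 (vec p) (vec q) with ht
  by_contra h0
  have hn : Q6 (vec q + t • vec p) = 1 := by
    rw [← refl_formula (norm_vec p), apply_quad, norm_vec]
  have key : ∀ s : ZMod 3, s ≠ 0 → s = 1 ∨ s = -1 := by decide
  have h3 : (1 : ZMod 3) + 1 = -1 := by decide
  rcases line_spec' hn with e | e <;> rw [h] at e
  · have h4 : t • vec p = 0 := add_eq_left.1 e
    rcases smul_eq_zero.1 h4 with h5 | h5
    · exact h0 h5
    · have := (lineOf_vec p).2.2
      rw [h5] at this
      exact absurd this (by decide)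
  · have h4 : t • vec p = vec q := by
      have h6 : t • vec p = -vec q - vec q := eq_sub_of_add_eq (by rw [← e, add_comm])
      rw [h6]
      funext i
      have : ∀ s : ZMod 3, -s - s = s := by decide
      exact this _
    rcases key t h0 with e' | e' <;> rw [e'] at h4
    · rw [one_smul] at h4
      exact hne ((lineOf_vec p).1.symm.trans ((congrArg lineOf h4).trans (lineOf_vec q).1))
    · rw [neg_smul, one_smul] at h4
      exact hne ((lineOf_vec p).2.1.symm.trans ((congrArg lineOf h4).trans (lineOf_vec q).1))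

end CfsgLib.Sporadic.FiTransfer.ThreeA
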